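import Mathlib
import Cfsg.Agent.Oct.Basic
import Cfsg.Agent.Chev.G2Rep
import Cfsg.Agent.S1059

/-!
# The two models of `G₂(3)`

The automorphism group of Zorn's algebra over `F₃` has order at most `728 · 216 · 27`; the
seven-dimensional representation of the Chevalley group lands in it, so the two groups agree.
-/

set_option autoImplicit false
set_option maxRecDepth 100000

namespace Cfsg.Agent.Rec.G23

open Cfsg.Lie Cfsg.Agent.Oct Cfsg.Agent.Chev.G2 Matrix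

/-- Vectors of the octonion algebra over `F₃`. -/
abbrev V8 : Type := Fin 8 → ZMod 3

/-- The vector with the given ternary digits. -/
def dig (n : ℕ) : V8 := fun i => ((n / 3 ^ (i : ℕ) % 3 : ℕ) : ZMod 3)

theorem exists_dig (v : V8) : ∃ n < 6561, dig n = v := by
  let w : Fin 8 → Fin 3 := v
  refine ⟨finFunctionFinEquiv w, (finFunctionFinEquiv w).2, funext fun i => ?_⟩
  have h := finFunctionFinEquiv_symm_apply_val (finFunctionFinEquiv w) i
  rw [Equiv.symm_apply_apply] at h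
  unfold dig
  rw [← h]
  exact ZMod.natCast_zmod_val (v i)

theorem card_le_of_orbit {G X : Type*} [Group G] [Finite G] [MulAction G X] (H : Subgroup G) (x : X)
    (S : Finset X) (h : ∀ g ∈ H, g • x ∈ S) :
    Nat.card H ≤ S.card * Nat.card (H ⊓ MulAction.stabilizer G x : Subgroup G) := by
  have h1 : Nat.card H = (MulAction.stabilizer H x).index * Nat.card (MulAction.stabilizer H x) := by
    rw [Subgroup.index_mul_card]
  have h2 : Nat.card (MulAction.stabilizer H x) = Nat.card (H ⊓ MulAction.stabilizer G x : Subgroup G) := by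
    have h3 : (MulAction.stabilizer H x).map H.subtype = H ⊓ MulAction.stabilizer G x := by
      ext g
      constructor
      · rintro ⟨k, hk, rfl⟩
        exact ⟨k.2, hk⟩
      · rintro ⟨h1, h2⟩
        exact ⟨⟨g, h1⟩, h2, rfl⟩
    rw [← h3, Subgroup.card_map_of_injective H.subtype_injective]
  rw [h1, h2, MulAction.index_stabilizer]
  refine Nat.mul_le_mul_right _ ?_
  rw [← Set.ncard_coe_finset]
  exact Set.ncard_le_ncard (by rintro _ ⟨g, rfl⟩; exact h g g.2) S.finite_toSet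

theorem card_le_of_pred {G : Type*} [Group G] [Finite G] [MulAction G V8] (H : Subgroup G) (x : V8)
    (P : V8 → Prop) [DecidablePred P] {k : ℕ} (hk : ((List.range 6561).filter fun n => P (dig n)).length = k)
    (h : ∀ g ∈ H, P (g • x)) :
    Nat.card H ≤ k * Nat.card (H ⊓ MulAction.stabilizer G x : Subgroup G) := by
  refine (card_le_of_orbit H x ((((List.range 6561).filter fun n => P (dig n)).map dig).toFinset)
    fun g hg => ?_).trans (Nat.mul_le_mul_right _ ?_)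
  · obtain ⟨n, hn, h1⟩ := exists_dig (g • x)
    exact List.mem_toFinset.2 (List.mem_map.2 ⟨n, List.mem_filter.2
      ⟨List.mem_range.2 hn, decide_eq_true (h1 ▸ h g hg)⟩, h1⟩)
  · exact (List.toFinset_card_le _).trans (by rw [List.length_map, hk])

/-- The product, written out. -/
def zz (x y : V8) : V8 :=
  ![x 0 * y 0 + (x 1 * y 4 + x 2 * y 5 + x 3 * y 6),
    x 0 * y 1 + y 7 * x 1 - (x 5 * y 6 - x 6 * y 5),
    x 0 * y 2 + y 7 * x 2 - (x 6 * y 4 - x 4 * y 6),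
    x 0 * y 3 + y 7 * x 3 - (x 4 * y 5 - x 5 * y 4),
    y 0 * x 4 + x 7 * y 4 + (x 2 * y 3 - x 3 * y 2),
    y 0 * x 5 + x 7 * y 5 + (x 3 * y 1 - x 1 * y 3),
    y 0 * x 6 + x 7 * y 6 + (x 1 * y 2 - x 2 * y 1),
    x 4 * y 1 + x 5 * y 2 + x 6 * y 3 + x 7 * y 7]

theorem zorn_m (x y : V8) : (zorn (ZMod 3)).m x y = zz x y := zm_apply _ x y

/-- Basis vectors. -/
def bv (i : Fin 8) : V8 := fun j => if j = i then 1 else 0

theorem cnt1 : ((List.range 6561).filter fun n => zz (dig n) (dig n) = 0 ∧ dig n ≠ 0).length = 728 := by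
  decide +kernel

theorem cnt2 : ((List.range 6561).filter fun n => zz (dig n) (dig n) = 0 ∧
    zz (bv 1) (dig n) + zz (dig n) (bv 1) = 0 ∧ zz (bv 1) (dig n) ≠ 0).length = 216 := by
  decide +kernel

theorem cnt3 : ((List.range 6561).filter fun n => zz (dig n) (dig n) = 0 ∧
    zz (bv 1) (dig n) + zz (dig n) (bv 1) = 0 ∧ zz (bv 2) (dig n) + zz (dig n) (bv 2) = 0 ∧
    zz (bv 6) (dig n) + zz (dig n) (bv 6) = ![1, 0, 0, 0, 0, 0, 0, 1]).length = 27 := by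
  decide +kernel

theorem card_aut_le : Nat.card (zorn (ZMod 3)).Aut ≤ 4245696 := by
  let Gp := V8 ≃ₗ[ZMod 3] V8
  have : Finite Gp := Finite.of_injective (fun g : Gp => (g : V8 → V8)) DFunLike.coe_injective
  set K := (zorn (ZMod 3)).Aut
  have hm : ∀ g ∈ K, ∀ x y, g (zz x y) = zz (g x) (g y) := fun g hg x y => by
    rw [← zorn_m, ← zorn_m]; exact hg x y
  have he : ∀ g ∈ K, g ![1, 0, 0, 0, 0, 0, 0, 1] = ![1, 0, 0, 0, 0, 0, 0, 1] := fun g hg =>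
    Comp.aut_e (A := zorn (ZMod 3)) ⟨g, hg⟩
  have h1 := card_le_of_pred (G := Gp) K (bv 1) (fun v => zz v v = 0 ∧ v ≠ 0) cnt1 fun g hg =>
    ⟨by change zz (g _) (g _) = 0
        rw [← hm g hg, show zz (bv 1) (bv 1) = 0 by decide, map_zero],
      fun h => absurd (g.map_eq_zero_iff.1 h) (by decide)⟩
  have h2 := card_le_of_pred (G := Gp) (K ⊓ MulAction.stabilizer Gp (bv 1)) (bv 2)
    (fun v => zz v v = 0 ∧ zz (bv 1) v + zz v (bv 1) = 0 ∧ zz (bv 1) v ≠ 0) cnt2 fun g hg => by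
      have a1 : g (bv 1) = bv 1 := hg.2
      change zz (g _) (g _) = 0 ∧ zz (bv 1) (g _) + zz (g _) (bv 1) = 0 ∧ zz (bv 1) (g _) ≠ 0
      rw [← a1, ← hm g hg.1, ← hm g hg.1, ← hm g hg.1, ← map_add]
      refine ⟨by rw [show zz (bv 2) (bv 2) = 0 by decide, map_zero],
        by rw [show zz (bv 1) (bv 2) + zz (bv 2) (bv 1) = 0 by decide, map_zero],
        fun h => absurd (g.map_eq_zero_iff.1 h) (by decide)⟩
  have key : ∀ g ∈ K ⊓ MulAction.stabilizer Gp (bv 1) ⊓ MulAction.stabilizer Gp (bv 2), g (bv 6) = bv 6 :=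
    fun g hg => by
      have a1 : g (bv 1) = bv 1 := hg.1.2
      have a2 : g (bv 2) = bv 2 := hg.2
      rw [show bv 6 = zz (bv 1) (bv 2) by decide, hm g hg.1.1, a1, a2]
  have h3 := card_le_of_pred (G := Gp) (K ⊓ MulAction.stabilizer Gp (bv 1) ⊓ MulAction.stabilizer Gp (bv 2)) (bv 3)
    (fun v => zz v v = 0 ∧ zz (bv 1) v + zz v (bv 1) = 0 ∧ zz (bv 2) v + zz v (bv 2) = 0 ∧
      zz (bv 6) v + zz v (bv 6) = ![1, 0, 0, 0, 0, 0, 0, 1]) cnt3 fun g hg => by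
      have a1 : g (bv 1) = bv 1 := hg.1.2
      have a2 : g (bv 2) = bv 2 := hg.2
      have a6 := key g hg
      change zz (g _) (g _) = 0 ∧ zz (bv 1) (g _) + zz (g _) (bv 1) = 0 ∧ zz (bv 2) (g _) + zz (g _) (bv 2) = 0 ∧
        zz (bv 6) (g _) + zz (g _) (bv 6) = _
      refine ⟨by rw [← hm g hg.1.1, show zz (bv 3) (bv 3) = 0 by decide, map_zero], ?_, ?_, ?_⟩
      · rw [← a1, ← hm g hg.1.1, ← hm g hg.1.1, ← map_add,
          show zz (bv 1) (bv 3) + zz (bv 3) (bv 1) = 0 by decide, map_zero]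
      · rw [← a2, ← hm g hg.1.1, ← hm g hg.1.1, ← map_add,
          show zz (bv 2) (bv 3) + zz (bv 3) (bv 2) = 0 by decide, map_zero]
      · rw [← a6, ← hm g hg.1.1, ← hm g hg.1.1, ← map_add,
          show zz (bv 6) (bv 3) + zz (bv 3) (bv 6) = ![1, 0, 0, 0, 0, 0, 0, 1] by decide, he g hg.1.1]
  have h4 : K ⊓ MulAction.stabilizer Gp (bv 1) ⊓ MulAction.stabilizer Gp (bv 2) ⊓
      MulAction.stabilizer Gp (bv 3) = ⊥ := by
    refine eq_bot_iff.2 fun g hg => ?_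
    have hK := hg.1.1.1
    have a1 : g (bv 1) = bv 1 := hg.1.1.2
    have a2 : g (bv 2) = bv 2 := hg.1.2
    have a3 : g (bv 3) = bv 3 := hg.2
    have a6 := key g hg.1
    have a4 : g (bv 4) = bv 4 := by rw [show bv 4 = zz (bv 2) (bv 3) by decide, hm g hK, a2, a3]
    have a5 : g (bv 5) = bv 5 := by rw [show bv 5 = zz (bv 3) (bv 1) by decide, hm g hK, a3, a1]
    have a0 : g (bv 0) = bv 0 := by rw [show bv 0 = zz (bv 1) (bv 4) by decide, hm g hK, a1, a4]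
    have a7 : g (bv 7) = bv 7 := by rw [show bv 7 = zz (bv 4) (bv 1) by decide, hm g hK, a1, a4]
    have hb : ∀ i, g (bv i) = bv i := fun i => by fin_cases i <;> assumption
    refine Subgroup.mem_bot.2 (LinearEquiv.toLinearMap_injective (LinearMap.pi_ext' fun i => ?_))
    ext1
    have : (Pi.single i (1 : ZMod 3) : V8) = bv i := by ext j; simp [bv, Pi.single_apply]
    simpa [this] using hb i
  rw [h4, Subgroup.card_bot] at h3
  exact h1.trans ((Nat.mul_le_mul_left _ (h2.trans (Nat.mul_le_mul_left _ h3))).trans (by norm_num))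

theorem card_G2_le : Nat.card (Lie.G2 (ZMod 3)) ≤ 4245696 :=
  (Nat.card_congr (g2Equiv (ZMod 3)).toEquiv).trans_le card_aut_le

theorem mem_G2_of_basis {g : GL (Fin 8) (ZMod 3)} {M : Matrix (Fin 8) (Fin 8) (ZMod 3)} (hM : g.val = M)
    (h : ∀ i j, M *ᵥ zz (bv i) (bv j) = zz (fun k => M k i) (fun k => M k j)) : g ∈ Lie.G2 (ZMod 3) := by
  have h1 : (zm (ZMod 3)).compr₂ (Matrix.toLin' M) = (zm (ZMod 3)).compl₁₂ (Matrix.toLin' M) (Matrix.toLin' M) := by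
    refine LinearMap.pi_ext' fun i => LinearMap.ext_ring (LinearMap.pi_ext' fun j => LinearMap.ext_ring ?_)
    have e : ∀ i, (Pi.single i (1 : ZMod 3) : V8) = bv i := fun i => by ext j; simp [bv, Pi.single_apply]
    have e' : ∀ i, M *ᵥ bv i = fun k => M k i := fun i => by
      rw [← e, Matrix.mulVec_single_one]; rfl
    simp only [LinearMap.comp_apply, LinearMap.single_apply, LinearMap.compr₂_apply, LinearMap.compl₁₂_apply,
      Matrix.toLin'_apply, e, e']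
    exact (congrArg _ (zorn_m _ _)).trans ((h i j).trans (zorn_m _ _).symm)
  intro x y
  have h2 := LinearMap.congr_fun (LinearMap.congr_fun h1 x) y
  simp only [LinearMap.compr₂_apply, LinearMap.compl₁₂_apply, Matrix.toLin'_apply] at h2
  rw [Units.coeHom_apply, hM]
  exact h2

/-- Embedding of the trace zero part. -/
def mE : Matrix (Fin 8) (Fin 7) (ZMod 3) :=
  !![0, 0, 0, 2, 0, 0, 0; 1, 0, 0, 0, 0, 0, 0; 0, 0, 0, 0, 0, 1, 0; 0, 0, 0, 0, 2, 0, 0;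
    0, 0, 0, 0, 0, 0, 2; 0, 1, 0, 0, 0, 0, 0; 0, 0, 1, 0, 0, 0, 0; 0, 0, 0, 1, 0, 0, 0]

/-- Projection to the trace zero part. -/
def mD : Matrix (Fin 7) (Fin 8) (ZMod 3) :=
  !![0, 1, 0, 0, 0, 0, 0, 0; 0, 0, 0, 0, 0, 1, 0, 0; 0, 0, 0, 0, 0, 0, 1, 0; 1, 0, 0, 0, 0, 0, 0, 2;
    0, 0, 0, 2, 0, 0, 0, 0; 0, 0, 1, 0, 0, 0, 0, 0; 0, 0, 0, 0, 2, 0, 0, 0]

/-- Projection to the unit. -/
def mP : Matrix (Fin 8) (Fin 8) (ZMod 3) := 1 - mE * mD

theorem mD_mE : mD * mE = 1 := by decide +kernel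

theorem mD_mP : mD * mP = 0 := by rw [mP, Matrix.mul_sub, Matrix.mul_one, ← Matrix.mul_assoc, mD_mE, Matrix.one_mul, sub_self]

theorem mP_mE : mP * mE = 0 := by rw [mP, Matrix.sub_mul, Matrix.one_mul, Matrix.mul_assoc, mD_mE, Matrix.mul_one, sub_self]

theorem mP_mP : mP * mP = mP := by
  conv_lhs => rw [mP, Matrix.sub_mul, Matrix.one_mul, Matrix.mul_assoc, ← mP, mD_mP, Matrix.mul_zero, sub_zero]

/-- Extension of a `7 × 7` matrix by the identity on the unit. -/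
def ext8 : Matrix (Fin 7) (Fin 7) (ZMod 3) →* Matrix (Fin 8) (Fin 8) (ZMod 3) where
  toFun a := mE * a * mD + mP
  map_one' := by rw [Matrix.mul_one, mP, add_sub_cancel]
  map_mul' a b := by
    have h1 : mE * a * mD * (mE * b * mD) = mE * (a * b) * mD := by
      simp only [Matrix.mul_assoc]
      rw [← Matrix.mul_assoc mD mE, mD_mE, Matrix.one_mul]
    have h2 : mE * a * mD * mP = 0 := by rw [Matrix.mul_assoc, mD_mP, Matrix.mul_zero]
    have h3 : mP * (mE * b * mD) = 0 := by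
      rw [← Matrix.mul_assoc, ← Matrix.mul_assoc, mP_mE, Matrix.zero_mul, Matrix.zero_mul]
    rw [Matrix.add_mul, Matrix.mul_add, Matrix.mul_add, h1, h2, h3, mP_mP, add_zero, zero_add]

theorem ext8_inj : Function.Injective ext8 := fun a b h => by
  have k : ∀ c, mD * ext8 c * mE = c := fun c => by
    change mD * (mE * c * mD + mP) * mE = c
    rw [Matrix.mul_add, mD_mP, add_zero]
    simp only [Matrix.mul_assoc]
    rw [mD_mE, Matrix.mul_one, ← Matrix.mul_assoc, mD_mE, Matrix.one_mul]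
  rw [← k a, h, k]

/-- The Chevalley group acting on the octonions. -/
noncomputable def rho8 : chevG2.group (ZMod 3) →* GL (Fin 8) (ZMod 3) :=
  (ext8.comp (rho (ZMod 3))).toHomUnits

theorem coe_rho8 (g : chevG2.group (ZMod 3)) : (rho8 g).val = mE * rho (ZMod 3) g * mD + mP := rfl

theorem rho8_inj : Function.Injective rho8 := fun _ _ h =>
  rho_injective (ext8_inj (congrArg Units.val h))

theorem range_rho8_le {K : Subgroup (GL (Fin 8) (ZMod 3))}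
    (h : ∀ r < 12, rho8 (chevG2.XG (ZMod 3) r 1) ∈ K) : rho8.range ≤ K := by
  rintro _ ⟨a, rfl⟩
  induction a using g2_induction with
  | h1 => rw [map_one]; exact one_mem _
  | hx r hr t a ih =>
    rw [map_mul]
    refine mul_mem ?_ ih
    have h1 := h r hr
    have ht : t = 1 + 1 + 1 ∨ t = 1 ∨ t = 1 + 1 := by revert t; decide
    rcases ht with rfl | rfl | rfl
    · rw [XG_add hr, XG_add hr, map_mul, map_mul]; exact mul_mem (mul_mem h1 h1) h1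
    · exact h1
    · rw [XG_add hr, map_mul]; exact mul_mem h1 h1

theorem card_chev : Nat.card (chevG2.group (ZMod 3)) = 4245696 := by
  rw [S1059.result (ZMod.card 3)]; norm_num

theorem card_range_rho8 : Nat.card rho8.range = 4245696 := by
  rw [← Nat.card_congr (MonoidHom.ofInjective rho8_inj).toEquiv, card_chev]

/-- The root elements on the octonions. -/
def Y8 : ℕ → Matrix (Fin 8) (Fin 8) (ZMod 3)
  | 0 => !![1, 0, 0, 0, 0, 0, 0, 0;
      0, 1, 0, 0, 0, 0, 0, 0;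
      0, 2, 1, 0, 0, 0, 0, 0;
      0, 0, 0, 1, 0, 0, 0, 0;
      0, 0, 0, 0, 1, 1, 0, 0;
      0, 0, 0, 0, 0, 1, 0, 0;
      0, 0, 0, 0, 0, 0, 1, 0;
      0, 0, 0, 0, 0, 0, 0, 1]
  | 1 => !![1, 0, 0, 0, 0, 0, 0, 0;
      0, 1, 0, 0, 0, 0, 0, 0;
      0, 0, 1, 0, 0, 0, 0, 0;
      0, 2, 0, 1, 0, 0, 0, 0;
      0, 0, 0, 0, 1, 0, 1, 0;
      0, 0, 0, 0, 0, 1, 0, 0;
      0, 0, 0, 0, 0, 0, 1, 0;
      0, 0, 0, 0, 0, 0, 0, 1]
  | 2 => !![1, 1, 0, 0, 0, 0, 0, 0;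
      0, 1, 0, 0, 0, 0, 0, 0;
      0, 0, 1, 0, 0, 0, 1, 0;
      0, 0, 0, 1, 0, 2, 0, 0;
      2, 2, 0, 0, 1, 0, 0, 1;
      0, 0, 0, 0, 0, 1, 0, 0;
      0, 0, 0, 0, 0, 0, 1, 0;
      0, 2, 0, 0, 0, 0, 0, 1]
  | 3 => !![1, 0, 0, 0, 0, 2, 0, 0;
      0, 1, 0, 0, 0, 0, 0, 0;
      1, 0, 1, 0, 0, 2, 0, 2;
      0, 0, 0, 1, 0, 0, 0, 0;
      0, 0, 0, 1, 1, 0, 0, 0;
      0, 0, 0, 0, 0, 1, 0, 0;
      0, 2, 0, 0, 0, 0, 1, 0;
      0, 0, 0, 0, 0, 1, 0, 1]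
  | 4 => !![1, 0, 0, 0, 0, 0, 2, 0;
      0, 1, 0, 0, 0, 0, 0, 0;
      0, 0, 1, 0, 0, 0, 0, 0;
      1, 0, 0, 1, 0, 0, 2, 2;
      0, 0, 2, 0, 1, 0, 0, 0;
      0, 1, 0, 0, 0, 1, 0, 0;
      0, 0, 0, 0, 0, 0, 1, 0;
      0, 0, 0, 0, 0, 0, 1, 1]
  | 5 => !![1, 0, 0, 0, 0, 0, 0, 0;
      0, 1, 0, 0, 0, 0, 0, 0;
      0, 0, 1, 2, 0, 0, 0, 0;
      0, 0, 0, 1, 0, 0, 0, 0;
      0, 0, 0, 0, 1, 0, 0, 0;
      0, 0, 0, 0, 0, 1, 0, 0;
      0, 0, 0, 0, 0, 1, 1, 0;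
      0, 0, 0, 0, 0, 0, 0, 1]
  | 6 => !![1, 0, 0, 0, 0, 0, 0, 0;
      0, 1, 0, 0, 0, 0, 0, 0;
      0, 0, 1, 0, 0, 0, 0, 0;
      0, 0, 2, 1, 0, 0, 0, 0;
      0, 0, 0, 0, 1, 0, 0, 0;
      0, 0, 0, 0, 0, 1, 1, 0;
      0, 0, 0, 0, 0, 0, 1, 0;
      0, 0, 0, 0, 0, 0, 0, 1]
  | 7 => !![1, 0, 0, 1, 0, 0, 0, 0;
      0, 1, 0, 0, 0, 1, 0, 0;
      0, 0, 1, 0, 2, 0, 0, 0;
      0, 0, 0, 1, 0, 0, 0, 0;
      0, 0, 0, 0, 1, 0, 0, 0;
      0, 0, 0, 0, 0, 1, 0, 0;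
      2, 0, 0, 2, 0, 0, 1, 1;
      0, 0, 0, 2, 0, 0, 0, 1]
  | 8 => !![1, 0, 1, 0, 0, 0, 0, 0;
      0, 1, 0, 0, 0, 0, 2, 0;
      0, 0, 1, 0, 0, 0, 0, 0;
      0, 0, 0, 1, 1, 0, 0, 0;
      0, 0, 0, 0, 1, 0, 0, 0;
      2, 0, 2, 0, 0, 1, 0, 1;
      0, 0, 0, 0, 0, 0, 1, 0;
      0, 0, 2, 0, 0, 0, 0, 1]
  | 9 => !![1, 0, 0, 0, 2, 0, 0, 0;
      1, 1, 0, 0, 2, 0, 0, 2;
      0, 0, 1, 0, 0, 0, 0, 0;
      0, 0, 0, 1, 0, 0, 0, 0;
      0, 0, 0, 0, 1, 0, 0, 0;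
      0, 0, 0, 2, 0, 1, 0, 0;
      0, 0, 1, 0, 0, 0, 1, 0;
      0, 0, 0, 0, 1, 0, 0, 1]
  | 10 => !![1, 0, 0, 0, 0, 0, 0, 0;
      0, 1, 0, 2, 0, 0, 0, 0;
      0, 0, 1, 0, 0, 0, 0, 0;
      0, 0, 0, 1, 0, 0, 0, 0;
      0, 0, 0, 0, 1, 0, 0, 0;
      0, 0, 0, 0, 0, 1, 0, 0;
      0, 0, 0, 0, 1, 0, 1, 0;
      0, 0, 0, 0, 0, 0, 0, 1]
  | 11 => !![1, 0, 0, 0, 0, 0, 0, 0;
      0, 1, 2, 0, 0, 0, 0, 0;
      0, 0, 1, 0, 0, 0, 0, 0;
      0, 0, 0, 1, 0, 0, 0, 0;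
      0, 0, 0, 0, 1, 0, 0, 0;
      0, 0, 0, 0, 1, 1, 0, 0;
      0, 0, 0, 0, 0, 0, 1, 0;
      0, 0, 0, 0, 0, 0, 0, 1]
  | _ => 1

theorem Y8_eq : ∀ r < 12, mE * Y r (1 : ZMod 3) * mD + mP = Y8 r := by decide +kernel

theorem coe_rho8_XG {r : ℕ} (hr : r < 12) : (rho8 (chevG2.XG (ZMod 3) r 1)).val = Y8 r := by
  rw [coe_rho8, rho_XG hr, Y8_eq r hr]

theorem chk_Y : ∀ r < 12, ∀ i j, Y8 r *ᵥ zz (bv i) (bv j) = zz (fun k => Y8 r k i) (fun k => Y8 r k j) := by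
  decide +kernel

theorem range_rho8 : rho8.range = Lie.G2 (ZMod 3) :=
  Subgroup.eq_of_le_of_card_ge (range_rho8_le fun r hr =>
    mem_G2_of_basis (coe_rho8_XG hr) (chk_Y r hr)) (card_range_rho8 ▸ card_G2_le)

/-- The two models of `G₂(3)` are isomorphic. -/
noncomputable def chevEquiv : chevG2.group (ZMod 3) ≃* Lie.G2 (ZMod 3) :=
  (MonoidHom.ofInjective rho8_inj).trans (MulEquiv.subgroupCongr range_rho8)

theorem map_mem_G2 {F F' : Type*} [Field F] [Field F'] (f : F ≃+* F') {g : GL (Fin 8) F} (hg : g ∈ Lie.G2 F) :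
    Matrix.GeneralLinearGroup.map (f : F →+* F') g ∈ Lie.G2 F' := by
  have hz : ∀ x y : Fin 8 → F, f ∘ zornMul x y = zornMul (f ∘ x) (f ∘ y) := fun x y => by
    ext i; fin_cases i <;> simp [zornMul, dot3, cross3]
  have hv : ∀ x : Fin 8 → F, (Units.coeHom _ (Matrix.GeneralLinearGroup.map (f : F →+* F') g)) *ᵥ (f ∘ x) =
      f ∘ ((Units.coeHom _ g) *ᵥ x) := fun x => by
    ext i
    exact (RingHom.map_mulVec (f : F →+* F') g.val x i).symm
  intro x y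
  obtain ⟨x, rfl⟩ : ∃ x', x = f ∘ x' := ⟨f.symm ∘ x, by ext; simp⟩
  obtain ⟨y, rfl⟩ : ∃ y', y = f ∘ y' := ⟨f.symm ∘ y, by ext; simp⟩
  rw [← hz, hv, hv, hv, ← hz, hg x y]

/-- Transport of `G₂` along a field isomorphism. -/
noncomputable def g2Congr {F F' : Type*} [Field F] [Field F'] (f : F ≃+* F') : Lie.G2 F ≃* Lie.G2 F' where
  toFun g := ⟨_, map_mem_G2 f g.2⟩
  invFun g := ⟨_, map_mem_G2 f.symm g.2⟩
  left_inv g := Subtype.ext (Units.ext (by ext i j; simp [Matrix.GeneralLinearGroup.map]))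
  right_inv g := Subtype.ext (Units.ext (by ext i j; simp [Matrix.GeneralLinearGroup.map]))
  map_mul' a b := Subtype.ext (map_mul _ a.1 b.1)

theorem nonempty_g2_equiv (F : Type*) [Field F] [Fintype F] (hF : Fintype.card F = 3) :
    Nonempty (chevG2.group (ZMod 3) ≃* Lie.G2 F) :=
  ⟨chevEquiv.trans (g2Congr (ZMod.ringEquivOfPrime F Nat.prime_three hF))⟩

end Cfsg.Agent.Rec.G23
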